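import Groth.Agent.H23LinSer.Adapted
import Mathlib.Combinatorics.Additive.CauchyDavenport

/-! Elementary consequences of Riemann–Roch: places of degree one, gaps, Clifford. -/

set_option autoImplicit false
set_option linter.unusedSectionVars false

namespace Groth.Agent.H23Curve

open Groth.Agent.H23FunFld
open scoped Pointwise

variable {k K : Type*} [Field k] [Field K] [Algebra k K] (hK : FunFld.IsFunctionField k K)
include hK

/-- An effective divisor of degree one is a place of degree one. -/
theorem eq_single_of_deg_one {E : FunFld.Divisor k K} (h : 0 ≤ E) (hd : E.deg = 1) :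
    ∃ P : FunFld.Place k K, P.deg = 1 ∧ E = Finsupp.single P 1 := by
  classical
  have hne : E ≠ 0 := by
    intro h0
    rw [h0, deg_zero] at hd
    omega
  obtain ⟨P, hP⟩ := Finsupp.support_nonempty_iff.2 hne
  have hP1 : Finsupp.single P 1 ≤ E := by
    intro Q
    rw [Finsupp.single_apply]
    split
    · rename_i hPQ
      subst hPQ
      have h1 := Finsupp.mem_support_iff.1 hP
      have h2 := h P
      simp only [Finsupp.coe_zero, Pi.zero_apply] at h2
      omega
    · exact h Q
  have h1 := deg_pos hK P
  have h2 := deg_nonneg_lt hK (sub_nonneg.2 hP1) (by rw [deg_sub, hd, deg_single]; omega)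
  rw [sub_eq_zero] at h2
  refine ⟨P, ?_, h2⟩
  rw [h2, deg_single] at hd
  omega

/-- For a place of degree one, `ℓ(D)` grows by at most one. -/
theorem ell_le_succ {P : FunFld.Place k K} (hP : P.deg = 1) (D : FunFld.Divisor k K) :
    FunFld.ell (D + Finsupp.single P 1) ≤ FunFld.ell D + 1 := by
  have h := ell_sub_le hK (D := D) (E := D + Finsupp.single P 1)
    (le_add_of_nonneg_right (Finsupp.single_nonneg.2 zero_le_one))
  rw [deg_add, deg_single, hP] at h
  omega

/-- A member of exact pole order `n` makes `ℓ` grow. -/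
theorem ell_lt_of_ord {P : FunFld.Place k K} {n : ℤ} {z : K} (hz : z ≠ 0)
    (hzn : z ∈ FunFld.L (Finsupp.single P n)) (hord : P.ord z = -n) :
    FunFld.ell (Finsupp.single P (n - 1)) < FunFld.ell (Finsupp.single P n) := by
  have := finiteDimensional_L hK (Finsupp.single P n)
  refine Submodule.finrank_lt_finrank_of_lt (SetLike.lt_iff_le_and_exists.2
    ⟨L_mono (Finsupp.single_mono (by omega)), z, hzn, fun h => ?_⟩)
  have := (val_le_exp_iff P hz).1 (h P)
  rw [Finsupp.single_eq_same] at this
  omega

/-- If `ℓ` grows there is a member of exact pole order `n`. -/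
theorem exists_ord_of_ne {P : FunFld.Place k K} {n : ℤ}
    (h : FunFld.L (Finsupp.single P n) ≠ FunFld.L (Finsupp.single P (n - 1))) :
    ∃ z : K, z ≠ 0 ∧ z ∈ FunFld.L (Finsupp.single P n) ∧ P.ord z = -n := by
  have hle : FunFld.L (Finsupp.single P (n - 1)) ≤ FunFld.L (Finsupp.single P n) :=
    L_mono (Finsupp.single_mono (by omega))
  obtain ⟨z, hz, hz'⟩ := SetLike.exists_of_lt (lt_of_le_of_ne hle h.symm)
  have hz0 : z ≠ 0 := fun h0 => hz' (h0 ▸ Submodule.zero_mem _)
  refine ⟨z, hz0, hz, ?_⟩
  have h1 := (val_le_exp_iff P hz0).1 (hz P)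
  rw [Finsupp.single_eq_same] at h1
  by_contra hne
  refine hz' fun Q => ?_
  rcases eq_or_ne Q P with rfl | hQ
  · rw [Finsupp.single_eq_same, val_le_exp_iff Q hz0]
    omega
  · rw [Finsupp.single_eq_of_ne hQ]
    have := hz Q
    rwa [Finsupp.single_eq_of_ne hQ] at this

/-- `n` is a gap at `P`. -/
def IsGap (P : FunFld.Place k K) (n : ℕ) : Prop :=
  FunFld.L (Finsupp.single P (n : ℤ)) = FunFld.L (Finsupp.single P ((n : ℤ) - 1))

open scoped Classical in
theorem card_gaps {P : FunFld.Place k K} (hP : P.deg = 1) (n : ℕ) :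
    ((Finset.Icc 1 n).filter (fun m => IsGap P m)).card + FunFld.ell (Finsupp.single P (n : ℤ)) =
      n + 1 := by
  induction n with
  | zero => simp [ell_zero hK]
  | succ n ih =>
    rw [← Finset.insert_Icc_right_eq_Icc_add_one (by omega), Finset.filter_insert]
    have h1 := ell_le_succ hK hP (Finsupp.single P (n : ℤ))
    rw [← Finsupp.single_add] at h1
    push_cast
    split
    · rename_i hg
      rw [Finset.card_insert_of_notMem (by simp)]
      unfold IsGap at hg
      have e : FunFld.ell (Finsupp.single P ((n : ℤ) + 1)) = FunFld.ell (Finsupp.single P (n : ℤ)) := by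
        push_cast at hg
        rw [add_sub_cancel_right] at hg
        unfold FunFld.ell
        rw [hg]
      omega
    · rename_i hg
      obtain ⟨z, hz, hzm, hzo⟩ := exists_ord_of_ne hK hg
      have h2 := ell_lt_of_ord hK hz hzm hzo
      push_cast at h2
      rw [add_sub_cancel_right] at h2
      omega

/-- The number of attained orders at `P` is at most `ℓ(D)`. -/
theorem card_le_ell {D : FunFld.Divisor k K} (P : FunFld.Place k K) (S : Finset ℕ)
    (hS : ∀ n ∈ S, ∃ h : K, h ≠ 0 ∧ h ∈ FunFld.L D ∧ P.ord h + D P = n) :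
    S.card ≤ FunFld.ell D := by
  classical
  have key : ∀ m : ℕ, (S.filter (fun n => n < m)).card +
      FunFld.ell (D - Finsupp.single P (m : ℤ)) ≤ FunFld.ell D := by
    intro m
    induction m with
    | zero => simp
    | succ m ih =>
      have hle : D - Finsupp.single P ((m + 1 : ℕ) : ℤ) ≤ D - Finsupp.single P (m : ℤ) :=
        sub_le_sub_left (Finsupp.single_mono (by omega)) D
      have := finiteDimensional_L hK (D - Finsupp.single P (m : ℤ))
      have h1 : FunFld.ell (D - Finsupp.single P ((m + 1 : ℕ) : ℤ)) ≤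
          FunFld.ell (D - Finsupp.single P (m : ℤ)) := Submodule.finrank_mono (L_mono hle)
      by_cases hm : m ∈ S
      · have h2 : FunFld.ell (D - Finsupp.single P ((m + 1 : ℕ) : ℤ)) <
            FunFld.ell (D - Finsupp.single P (m : ℤ)) := by
          obtain ⟨h, hh, hhD, hho⟩ := hS m hm
          refine Submodule.finrank_lt_finrank_of_lt (SetLike.lt_iff_le_and_exists.2
            ⟨L_mono hle, h, fun Q => ?_, fun hc => ?_⟩)
          · rcases eq_or_ne Q P with rfl | hQ
            · rw [val_le_exp_iff Q hh, Finsupp.sub_apply, Finsupp.single_eq_same]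
              omega
            · have := hhD Q
              rwa [Finsupp.sub_apply, Finsupp.single_eq_of_ne hQ, sub_zero]
          · have := (val_le_exp_iff P hh).1 (hc P)
            rw [Finsupp.sub_apply, Finsupp.single_eq_same] at this
            omega
        have h3 : S.filter (fun n => n < m + 1) = insert m (S.filter (fun n => n < m)) := by
          ext n
          simp only [Finset.mem_filter, Finset.mem_insert]
          exact ⟨fun h => (eq_or_ne n m).imp_right fun hne => ⟨h.1, by omega⟩, fun h => by rcases h with rfl | h <;> [exact ⟨hm, by omega⟩; exact ⟨h.1, by omega⟩]⟩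
        rw [h3, Finset.card_insert_of_notMem (by simp)]
        omega
      · have h3 : S.filter (fun n => n < m + 1) = S.filter (fun n => n < m) := by
          refine Finset.filter_congr fun n hn => ?_
          have : n ≠ m := fun h => hm (h ▸ hn)
          omega
        rw [h3]
        omega
  have h1 := key (S.sup id + 1)
  rw [Finset.filter_true_of_mem fun n hn => by
    have := Finset.le_sup (f := id) hn
    simp only [id] at this
    omega] at h1
  omega

variable [IsAlgClosed k]

/-- Hopf's lemma. -/
theorem ell_add_ell_le {A B : FunFld.Divisor k K} (hA : 0 < FunFld.ell A)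
    (hB : 0 < FunFld.ell B) : FunFld.ell A + FunFld.ell B ≤ FunFld.ell (A + B) + 1 := by
  classical
  obtain ⟨P⟩ := nonempty_place hK
  have hdeg : ∀ E : FunFld.Divisor k K, 0 < FunFld.ell E → ∃ d : ℕ, E.deg = d := fun E hE => by
    have := H23LinSer.ell_le_toNat hK E
    exact ⟨E.deg.toNat, by omega⟩
  obtain ⟨a, ha⟩ := hdeg A hA
  obtain ⟨b, hb⟩ := hdeg B hB
  obtain ⟨r, hr⟩ : ∃ r, FunFld.ell A = r + 1 := ⟨_, (Nat.succ_pred_eq_of_pos hA).symm⟩
  obtain ⟨s, hs⟩ : ∃ s, FunFld.ell B = s + 1 := ⟨_, (Nat.succ_pred_eq_of_pos hB).symm⟩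
  obtain ⟨f, α, hf, hf0, hα, hfo, -, -, -⟩ := H23LinSer.exists_adapted hK (le_refl _) ha hr P
  obtain ⟨g, β, hg, hg0, hβ, hgo, -, -, -⟩ := H23LinSer.exists_adapted hK (le_refl _) hb hs P
  have h1 := cauchy_davenport_add_of_linearOrder_isCancelAdd
    (s := Finset.univ.image α) (t := Finset.univ.image β) (by simp) (by simp)
  rw [Finset.card_image_of_injective _ hα, Finset.card_image_of_injective _ hβ] at h1
  simp only [Finset.card_univ, Fintype.card_fin] at h1
  have h2 := card_le_ell hK (D := A + B) P (Finset.univ.image α + Finset.univ.image β) (by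
    intro n hn
    simp only [Finset.mem_add, Finset.mem_image, Finset.mem_univ, true_and] at hn
    obtain ⟨_, ⟨i, rfl⟩, _, ⟨j, rfl⟩, rfl⟩ := hn
    refine ⟨f i * g j, mul_ne_zero (hf0 i) (hg0 j), mul_mem_L (hf i) (hg j), ?_⟩
    rw [ord_mul P (hf0 i) (hg0 j), Finsupp.add_apply]
    push_cast
    linarith [hfo i, hgo j])
  omega

/-- Clifford's inequality. -/
theorem clifford {D : FunFld.Divisor k K} (h : 0 < FunFld.ell D)
    (hd : D.deg ≤ 2 * (FunFld.genus k K : ℤ)) : 2 * (FunFld.ell D : ℤ) ≤ D.deg + 2 := by
  obtain ⟨C, hC⟩ := exists_isCanonical hK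
  have h1 := riemann_roch hK hC D
  rcases Nat.eq_zero_or_pos (FunFld.ell (C - D)) with h0 | h0
  · omega
  · have h2 := ell_add_ell_le hK h h0
    rw [add_sub_cancel, (canonical_ell_deg hK hC).1] at h2
    omega

end Groth.Agent.H23Curve
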